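import Mathlib
import Cfsg.Agent.Lib.MultC.Model
import Cfsg.Agent.Lib.LieModel.Sp62.P.Data

/-! permutation model of degree 63: generators and a stabiliser chain (generated) -/

set_option autoImplicit false
set_option maxRecDepth 100000
set_option Elab.async false

namespace CfsgLib.MultC.Sp62

open CfsgLib.Comput CfsgLib.MultC

noncomputable def u1_0 : Net :=
  Net.cons 1 0x1110151144544044
  (Net.cons 2 0x132300102202
  (Net.cons 4 0x101010305020000
  (Net.cons 8 0x42005000c20000
  (Net.cons 16 0x3bef00000000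
  (Net.cons 32 0x1355ecaa
  (Net.cons 16 0x51f80000d368
  (Net.cons 8 0x52005200c000c0
  (Net.cons 4 0x1040300040b0806
  (Net.cons 2 0x1313323322233322
  (Net.cons 1 0x1441104541104514
  (Net.nil)))))))))))

noncomputable def u1_1 : Net :=
  Net.cons 1 0x104010410004140
  (Net.cons 2 0x1000022023311100
  (Net.cons 4 0x404010400
  (Net.cons 8 0x1000100080
  (Net.cons 16 0x6f0f00000000
  (Net.cons 32 0x10cf7fc0
  (Net.cons 16 0x103000001080
  (Net.cons 8 0x3000c0007000c0
  (Net.cons 4 0x705000a0301020a
  (Net.cons 2 0x1131320001202300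
  (Net.cons 1 0x1405404541544154
  (Net.nil)))))))))))

noncomputable def u2_0 : Net :=
  Net.cons 2 0x1333311102222000
  (Net.cons 4 0x50d08000d050000
  (Net.cons 8 0x8000800000000
  (Net.cons 32 0x2f87d878
  (Net.cons 16 0x3c9c0000163e
  (Net.cons 8 0x20000000880028
  (Net.cons 4 0xf0f07070800
  (Net.cons 2 0x101121003011010
  (Net.nil))))))))

noncomputable def u2_1 : Net :=
  Net.cons 2 0x200202020202020
  (Net.cons 4 0xa000008080000
  (Net.cons 8 0x20008000800000
  (Net.cons 16 0x8000
  (Net.cons 32 0x7fffa000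
  (Net.cons 16 0x20000000a000
  (Net.cons 8 0x20002000280000
  (Net.cons 4 0x5050707000a0808
  (Net.cons 2 0x1212030303013030
  (Net.nil)))))))))

noncomputable def u3_0 : Net :=
  Net.cons 2 0x200202020202020
  (Net.cons 4 0xa000008080000
  (Net.cons 8 0x20008000800000
  (Net.cons 16 0x8000
  (Net.cons 32 0x7fffa000
  (Net.cons 16 0x20000000a000
  (Net.cons 8 0x20002000280000
  (Net.cons 4 0x5050707000a0808
  (Net.cons 2 0x1212030303013030
  (Net.nil)))))))))

noncomputable def u3_1 : Net :=
  Net.cons 2 0x202222222202222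
  (Net.cons 4 0x5050f0d0a000000
  (Net.cons 8 0x20002000000000
  (Net.cons 16 0x200000000000
  (Net.cons 32 0x78d8d2d2
  (Net.cons 16 0x2202
  (Net.cons 8 0xa20002
  (Net.cons 4 0x8000002020200
  (Net.cons 2 0x1131222231112222
  (Net.nil)))))))))

noncomputable def u4_0 : Net :=
  Net.cons 4 0x8000800000000
  (Net.cons 8 0x8000000000
  (Net.cons 16 0x8000
  (Net.cons 32 0x8000
  (Net.cons 16 0x8000008000
  (Net.cons 8 0x8008800000000
  (Net.cons 4 0x70f070f00000000
  (Net.nil)))))))

noncomputable def u4_1 : Net :=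
  Net.cons 4 0x8000800080008
  (Net.cons 8 0x8000000080
  (Net.cons 16 0x8000
  (Net.cons 32 0x78f0f870
  (Net.cons 16 0x8000000000
  (Net.cons 8 0x8008800000080
  (Net.cons 4 0x70f070f00080008
  (Net.nil)))))))

noncomputable def u5_0 : Net :=
  Net.cons 4 0x8000800000000
  (Net.cons 8 0x8000000000
  (Net.cons 16 0x8000
  (Net.cons 32 0x8000
  (Net.cons 16 0x8000008000
  (Net.cons 8 0x8008800000000
  (Net.cons 4 0x70f070f00000000
  (Net.nil)))))))

noncomputable def V0 : List Net := [nth Net.nil CfsgLib.LieModel.Sp62.P.W 0, nth Net.nil CfsgLib.LieModel.Sp62.P.W 2]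
noncomputable def U0 : List Net := (V0 ++ revL V0)
noncomputable def V1 : List Net := [u1_0, u1_1]
noncomputable def U1 : List Net := U0 ++ (V1 ++ revL V1)
noncomputable def V2 : List Net := [u2_0, u2_1]
noncomputable def U2 : List Net := U1 ++ (V2 ++ revL V2)
noncomputable def V3 : List Net := [u3_0, u3_1]
noncomputable def U3 : List Net := U2 ++ (V3 ++ revL V3)
noncomputable def V4 : List Net := [u4_0, u4_1]
noncomputable def U4 : List Net := U3 ++ (V4 ++ revL V4)
noncomputable def V5 : List Net := [u5_0]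
noncomputable def U5 : List Net := U4 ++ (V5 ++ revL V5)
noncomputable def U : List Net := U5

theorem v1 : wordsOK 63 6 U0 V1 [[0x201020302030202020102], [0x2020303030403040104]] = true := by decide +kernel
theorem v2 : wordsOK 63 6 U1 V2 [[0x70807070805060707], [0x5050605060505]] = true := by decide +kernel
theorem v3 : wordsOK 63 6 U2 V3 [[10], [0xb0b0a090a090c]] = true := by decide +kernel
theorem v4 : wordsOK 63 6 U3 V4 [[0x100f10100d0d0e], [0xd100d0e0d0d]] = true := by decide +kernel
theorem v5 : wordsOK 63 6 U4 V5 [[0x14111212]] = true := by decide +kernel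

theorem realU {G Ω : Type*} [Group G] [MulAction G Ω] {pt : ℕ → Ω} (h : AllReal G 63 pt V0) :
    AllReal G 63 pt U := by
  have h0 : AllReal G 63 pt U0 := h.append h.rev
  have k1 : AllReal G 63 pt V1 := h0.words (by norm_num) v1
  have h1 : AllReal G 63 pt U1 := h0.append (k1.append k1.rev)
  have k2 : AllReal G 63 pt V2 := h1.words (by norm_num) v2
  have h2 : AllReal G 63 pt U2 := h1.append (k2.append k2.rev)
  have k3 : AllReal G 63 pt V3 := h2.words (by norm_num) v3
  have h3 : AllReal G 63 pt U3 := h2.append (k3.append k3.rev)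
  have k4 : AllReal G 63 pt V4 := h3.words (by norm_num) v4
  have h4 : AllReal G 63 pt U4 := h3.append (k4.append k4.rev)
  have k5 : AllReal G 63 pt V5 := h4.words (by norm_num) v5
  have h5 : AllReal G 63 pt U5 := h4.append (k5.append k5.rev)
  exact h5

end CfsgLib.MultC.Sp62
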