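import Mathlib
import Cfsg.Agent.Lib.MultC.Cover
import Cfsg.Agent.Lib.LieModel.Sp62.P.Cert
import Cfsg.Agent.Lib.MultC.Pkg
import Cfsg.Agent.Lib.LieModel.Sp62.P.Main

/-! a projective permutation representation (generated) -/

set_option autoImplicit false
set_option maxRecDepth 100000
set_option Elab.async false

namespace CfsgLib.MultC.Sp62.Cov

open CfsgLib.Comput CfsgLib.MultC

open CfsgLib.LieModel.Sp62.P

noncomputable def a0_0 : Net :=
  Net.cons 1 0x54514054451554440500551540040
  (Net.cons 2 0x102320302301030302002310020100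
  (Net.cons 4 0xe0c00080b010a040205070d0500
  (Net.cons 8 0x8900e90080002100a500850008
  (Net.cons 16 0x7c000051960000090200000000
  (Net.cons 32 0x90132400000000de000000
  (Net.cons 64 0xf95327de000000
  (Net.cons 32 0xfdf77700000000a1e70000
  (Net.cons 16 0x840000ac820000fd7a00003708
  (Net.cons 8 0xba00000008001a0081005200f8
  (Net.cons 4 0x402000106010e06010b04060c030c
  (Net.cons 2 0x21121231231132330110012032212
  (Net.cons 1 0x500104011110114511540404444111
  (Net.nil)))))))))))))

noncomputable def r0 : Net :=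
  Net.cons 120 0x478f21404801cd29743964c04b1073
  (Net.nil)

noncomputable def y0 : Net := catN r0 (a0_0.widen (ones 120 2))

noncomputable def a2_0 : Net :=
  Net.cons 1 0x141514555510105414151055145154
  (Net.cons 2 0x102311201312030011332010102110
  (Net.cons 4 0x500020e0a0504000d0e0e09080a00
  (Net.cons 8 0x1c00ce00010009003000200020
  (Net.cons 16 0x96000002060000c00800000200
  (Net.cons 32 0x720024000000005e000000
  (Net.cons 64 0xf3873e5e000000
  (Net.cons 32 0xf7bf3e0000000023fe0200
  (Net.cons 16 0xe70000e848000034df0000dd30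
  (Net.cons 8 0x21004d005000cf0028008500d4
  (Net.cons 4 0x80302000c0801060f040c0703020e
  (Net.cons 2 0x122023202102313230033013001303
  (Net.cons 1 0x501400441044401544444504144450
  (Net.nil)))))))))))))

noncomputable def r2 : Net :=
  Net.cons 120 0x2cd33127f7a2914e7911008501af1c
  (Net.nil)

noncomputable def y2 : Net := catN r2 (a2_0.widen (ones 120 2))

noncomputable def a4_0 : Net :=
  Net.cons 1 0x51415045050441154400440500040
  (Net.cons 2 0x332101231233323102001033200120
  (Net.cons 4 0x308030d0c090604020c00090e0200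
  (Net.cons 8 0x58009a00880081001000710057
  (Net.cons 16 0x3100002b0e00000a8300004900
  (Net.cons 32 0x8085220000000008000000
  (Net.cons 64 0x77f9e448ed2ed2
  (Net.cons 32 0x93364b00000000ec09235a
  (Net.cons 16 0xc600009a030000c74d00007161
  (Net.cons 8 0x81001b00d300ff007b005f00a5
  (Net.cons 4 0x602060b04050f070d0c020d0f0a06
  (Net.cons 2 0x332111012120312122112222210133
  (Net.cons 1 0x4401450014014404051451145551
  (Net.nil)))))))))))))

noncomputable def r4 : Net :=
  Net.cons 120 0x14c6a2812e716267a04ed8ed33cfa2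
  (Net.nil)

noncomputable def y4 : Net := catN r4 (a4_0.widen (ones 120 2))

noncomputable def a6_0 : Net :=
  Net.cons 1 0x10004010050151050010005105044
  (Net.cons 2 0x210300302200102120302322120110
  (Net.cons 4 0xb0a050f080d080307060803070900
  (Net.cons 8 0x460069000f009c004d005000ab
  (Net.cons 16 0x670000c3190000dc840000e900
  (Net.cons 32 0x680407000000000f000000
  (Net.cons 64 0x901954bf6d6d7b
  (Net.cons 32 0xef4a7000000005540aed9
  (Net.cons 16 0xcb000085e700008fc6000070c2
  (Net.cons 8 0x10008a0044005900fb00080088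
  (Net.cons 4 0xa01060d05020504090604080a040a
  (Net.cons 2 0x213310322120202310132002310020
  (Net.cons 1 0x541111401010400110045105114005
  (Net.nil)))))))))))))

noncomputable def r6 : Net :=
  Net.cons 120 0x442186f65092b40a9dc959a5d11d86
  (Net.nil)

noncomputable def y6 : Net := catN r6 (a6_0.widen (ones 120 2))

noncomputable def a8_0 : Net :=
  Net.cons 1 0x500500044540105545151540140
  (Net.cons 2 0x300101102123121201001002000110
  (Net.cons 4 0xe0c0b0e0004080407020a08020300
  (Net.cons 8 0x6700ad0069001700eb00590000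
  (Net.cons 16 0x400002832000060210000a100
  (Net.cons 32 0x20041d0000000072000000
  (Net.cons 64 0x8859c3f67b2efe
  (Net.cons 32 0xa4a18500000000b66309d4
  (Net.cons 16 0x4700009f510000df7b00008727
  (Net.cons 8 0xf5007c00b400cb0009008300e7
  (Net.cons 4 0x800020e0e0c090705090b0c050008
  (Net.cons 2 0x112221133200201100002220012300
  (Net.cons 1 0x411454550114054040554150505051
  (Net.nil)))))))))))))

noncomputable def r8 : Net :=
  Net.cons 120 0x327c33b9dec2db511c91e23ea80e28
  (Net.nil)

noncomputable def y8 : Net := catN r8 (a8_0.widen (ones 120 2))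

noncomputable def a10_0 : Net :=
  Net.cons 1 0x411551440040141044101115415454
  (Net.cons 2 0x2012001011313322111003313030
  (Net.cons 4 0xb0d0a0a0e00050307010200090200
  (Net.cons 8 0x5a00cd00000038008100180086
  (Net.cons 16 0x3b00003e0d0000c50500001b00
  (Net.cons 32 0xd801a00000000aa000000
  (Net.cons 64 0xe45fe8ee3b9a97
  (Net.cons 32 0x9b161600000000bd69d608
  (Net.cons 16 0xec0000d46e0000f75500009c27
  (Net.cons 8 0x60007400eb008c004500bf007e
  (Net.cons 4 0xe02010f03030d090301070409040e
  (Net.cons 2 0x32201323302103020123213113120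
  (Net.cons 1 0x54045115505054414540505400055
  (Net.nil)))))))))))))

noncomputable def r10 : Net :=
  Net.cons 120 0x81ea59429aad6d300de2c78731a0bb
  (Net.nil)

noncomputable def y10 : Net := catN r10 (a10_0.widen (ones 120 2))

noncomputable def a12_0 : Net :=
  Net.cons 1 0x544411515414500155005540050
  (Net.cons 2 0x312013030210131000010022131200
  (Net.cons 4 0x901010500020a090d0b0f020e0c00
  (Net.cons 8 0x22008400f2007b00d300820028
  (Net.cons 16 0x7e00000b01000005190000b000
  (Net.cons 32 0x21e0000000002c000000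
  (Net.cons 64 0xc2ccfffd97730e
  (Net.cons 32 0xc5d295000000009e22b7ed
  (Net.cons 16 0xd30000b15900000add00003aed
  (Net.cons 8 0x310076007600a9005e00ab0096
  (Net.cons 4 0x9050004020c01070d0b0d0f040a09
  (Net.cons 2 0x230302102221230203231003202220
  (Net.cons 1 0x105504554451544500415500401444
  (Net.nil)))))))))))))

noncomputable def r12 : Net :=
  Net.cons 120 0x2356beeeed2f7b8127a629b361c4dd
  (Net.nil)

noncomputable def y12 : Net := catN r12 (a12_0.widen (ones 120 2))

noncomputable def a14_0 : Net :=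
  Net.cons 1 0x414150004550401041044510005140
  (Net.cons 2 0x302323002320202013121330120110
  (Net.cons 4 0x5030d03090c0d0c01080b070f0300
  (Net.cons 8 0xe005000ea0091002400c70009
  (Net.cons 16 0xd3000091200000130400004100
  (Net.cons 32 0x4250c200000000b4000000
  (Net.cons 64 0xdebfc1ff2c6d12
  (Net.cons 32 0xee438f00000000cbbf60b3
  (Net.cons 16 0x100006af2000032fa0000e453
  (Net.cons 8 0x5c0082009500e20089003800e4
  (Net.cons 4 0x9000d00050f0d0f010704080c0003
  (Net.cons 2 0x301313001310101023212330210220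
  (Net.cons 1 0x141405551005154514511045550415
  (Net.nil)))))))))))))

noncomputable def r14 : Net :=
  Net.cons 120 0x8c42d9ee98279325b12ffc18d4c796
  (Net.nil)

noncomputable def y14 : Net := catN r14 (a14_0.widen (ones 120 2))

noncomputable def a15_0 : Net :=
  Net.cons 1 0x410405010414145055145145144044
  (Net.cons 2 0x313130323110103211331022001000
  (Net.cons 4 0x20105020f0d0e0d08010808020000
  (Net.cons 8 0x2900bb000b0090002a000a0003
  (Net.cons 16 0x40000037020000188100000200
  (Net.cons 32 0x4bb4900000000080000000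
  (Net.cons 64 0x8c3fdb80c7c349
  (Net.cons 32 0x9fa93200000000fc7fe6cb
  (Net.cons 16 0x7d00005bfd0000b4890000d1ca
  (Net.cons 8 0x4600cb002f00f400070025004f
  (Net.cons 4 0x1000a020e0d0d0e01040601010100
  (Net.cons 2 0x300220103103203113022220001200
  (Net.cons 1 0x145150545141410500410410411511
  (Net.nil)))))))))))))

noncomputable def r15 : Net :=
  Net.cons 120 0xd3fb5d776aec5c3d21eaa29b280018
  (Net.nil)

noncomputable def y15 : Net := catN r15 (a15_0.widen (ones 120 2))

noncomputable def a16_0 : Net :=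
  Net.cons 1 0x415540501541541050004055105044
  (Net.cons 2 0x21121223132022200222232002230
  (Net.cons 4 0xd080304030704040e050f0c060700
  (Net.cons 8 0xdb008b0096007500da001c0014
  (Net.cons 16 0x450000084e00001d230000cd00
  (Net.cons 32 0xd80c4900000000a8000000
  (Net.cons 64 0x1ff1b4fae41fcb
  (Net.cons 32 0xe50a87000000005dca1a36
  (Net.cons 16 0x4a00001ec100008c3e0000b0e1
  (Net.cons 8 0xb9001f006900ea00bf001e0083
  (Net.cons 4 0x30105030c0e0a020f0a0e03070e00
  (Net.cons 2 0x321121220100222233222202332203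
  (Net.cons 1 0x140015054014014505551500450511
  (Net.nil)))))))))))))

noncomputable def r16 : Net :=
  Net.cons 120 0x794abf320f5db6c38e0504197394ee
  (Net.nil)

noncomputable def y16 : Net := catN r16 (a16_0.widen (ones 120 2))

noncomputable def a17_0 : Net :=
  Net.cons 1 0x514550504040045401515150404100
  (Net.cons 2 0x131220031110212003033000110100
  (Net.cons 4 0xc070001080a080f09000b06000500
  (Net.cons 8 0x71004000aa00d6002b005400cd
  (Net.cons 16 0x400004e600000162000005600
  (Net.cons 32 0x606c1000000004c000000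
  (Net.cons 64 0xe52a56c684442
  (Net.cons 32 0x5a81b100000000db198518
  (Net.cons 16 0xd3000052380000327400005af6
  (Net.cons 8 0x7500cf00a200dd0025005500cd
  (Net.cons 4 0xc050a010a08080f0b000b06020502
  (Net.cons 2 0x111202031110212003011000110300
  (Net.cons 1 0x514550504040055401515150405100
  (Net.nil)))))))))))))

noncomputable def r17 : Net :=
  Net.cons 120 0x6259ccdd4a986ff0f1bc1eef8e8668
  (Net.nil)

noncomputable def y17 : Net := catN r17 (a17_0.widen (ones 120 2))

noncomputable def a18_0 : Net :=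
  Net.cons 1 0x401100554050405515411540140150
  (Net.cons 2 0x330232033023202131121331002010
  (Net.cons 4 0x4030f090402030808060802000a00
  (Net.cons 8 0x1b006e00f700540064009100dc
  (Net.cons 16 0x8000001e130000999400009200
  (Net.cons 32 0x9a44100000000c0000000
  (Net.cons 64 0xd23c75c0cfc3ba
  (Net.cons 32 0xdb7a4300000000c4483bff
  (Net.cons 16 0x7d00005a2800002ad000004c36
  (Net.cons 8 0x3400d900b7000e0019007800de
  (Net.cons 4 0x90808050702040207050f020a0601
  (Net.cons 2 0x330131033013101232212332001020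
  (Net.cons 1 0x154455001505150040144015415405
  (Net.nil)))))))))))))

noncomputable def r18 : Net :=
  Net.cons 120 0xadff1a7ba71119071cc0ed8ad01b4b
  (Net.nil)

noncomputable def y18 : Net := catN r18 (a18_0.widen (ones 120 2))

noncomputable def a19_0 : Net :=
  Net.cons 1 0x44450044001155141041411154540
  (Net.cons 2 0x331321022132130201121130101310
  (Net.cons 4 0x8040a00030d0b0f08040604060500
  (Net.cons 8 0xb9001a003f0064008800420052
  (Net.cons 16 0x600000986c000075900000ec00
  (Net.cons 32 0xf614cd000000001c000000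
  (Net.cons 64 0xb3fb2d1e4cc4d2
  (Net.cons 32 0x3ac6cd00000000ffd2dc12
  (Net.cons 16 0xb2000044be0000bb710000df33
  (Net.cons 8 0x6700b7007f0089004400900092
  (Net.cons 4 0x70b0603000c040c070b080b0a0903
  (Net.cons 2 0x332312011231230102212230202320
  (Net.cons 1 0x511105511554400414514144401015
  (Net.nil)))))))))))))

noncomputable def r19 : Net :=
  Net.cons 120 0xe9a53fcef7842e1d43981d4320a765
  (Net.nil)

noncomputable def y19 : Net := catN r19 (a19_0.widen (ones 120 2))

noncomputable def a20_0 : Net :=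
  Net.cons 1 0x5415440110404404444044000000
  (Net.cons 2 0x330332322230333103012010030200
  (Net.cons 4 0x3060e0c000a0c0a04060a00060100
  (Net.cons 8 0x51000500900081002a00600001
  (Net.cons 16 0x330000825700002e0800000000
  (Net.cons 32 0x8500000000013000000
  (Net.cons 64 0x617403934c1e53
  (Net.cons 32 0x5018550000000019c21329
  (Net.cons 16 0x730000e07700002c0800006644
  (Net.cons 8 0xf30085009d00a3002e00660005
  (Net.cons 4 0xb060e0c000a0c0a04060a00060100
  (Net.cons 2 0x330332322230333103013010030200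
  (Net.cons 1 0x5415440110404444444044000000
  (Net.nil)))))))))))))

noncomputable def r20 : Net :=
  Net.cons 120 0x1801082740082a1c0940ec1014080
  (Net.nil)

noncomputable def y20 : Net := catN r20 (a20_0.widen (ones 120 2))

noncomputable def a21_0 : Net :=
  Net.cons 1 0x5405004551550055100550140000
  (Net.cons 2 0x103110110312231321102033310010
  (Net.cons 4 0xd0f06090a070a0c0b020e04090400
  (Net.cons 8 0x5200fe00c5000e00a100ae0008
  (Net.cons 16 0x2900003d2f0000b2a000001600
  (Net.cons 32 0xa4f10300000000c8000000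
  (Net.cons 64 0xce58a3f968a7a0
  (Net.cons 32 0xce663a00000000b469d6ef
  (Net.cons 16 0xf400002ad2000049b500004df3
  (Net.cons 8 0x4007d00b60060006400730014
  (Net.cons 4 0xa02080e04000909090f0e06000100
  (Net.cons 2 0x332122313130310303010021221212
  (Net.cons 1 0x440440105440005515414440414550
  (Net.nil)))))))))))))

noncomputable def r21 : Net :=
  Net.cons 120 0xab158cfd96035f217bf369f48a6028
  (Net.nil)

noncomputable def y21 : Net := catN r21 (a21_0.widen (ones 120 2))

noncomputable def a22_0 : Net :=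
  Net.cons 1 0x45114141055001044141451541410
  (Net.cons 2 0x22311302232212200003222330100
  (Net.cons 4 0xb0302010b0004090805080e0d0600
  (Net.cons 8 0x4c00b400e20043007d000800a0
  (Net.cons 16 0x6a0000c221000024220000d100
  (Net.cons 32 0x1228e00000000022000000
  (Net.cons 64 0xad26b0fa725945
  (Net.cons 32 0x6d32000000000503632e1
  (Net.cons 16 0x95000033b60000ffd50000dbd0
  (Net.cons 8 0x780087003c001e00e10061003f
  (Net.cons 4 0xd010d0b04060a06030901010b0200
  (Net.cons 2 0x23322201021001122022001103021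
  (Net.cons 1 0x510441414500554511414104014145
  (Net.nil)))))))))))))

noncomputable def r22 : Net :=
  Net.cons 120 0xff7df7f4f9dae35b912c4490024800
  (Net.nil)

noncomputable def y22 : Net := catN r22 (a22_0.widen (ones 120 2))

noncomputable def a23_0 : Net :=
  Net.cons 1 0x45114141055001044141451541410
  (Net.cons 2 0x22311302232212200003222330100
  (Net.cons 4 0xb0302010b0004090805080e0d0600
  (Net.cons 8 0x4c00b400e20043007d000800a0
  (Net.cons 16 0x6a0000c221000024220000d100
  (Net.cons 32 0x1228e00000000022000000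
  (Net.cons 64 0xad26b0fa725945
  (Net.cons 32 0x6d32000000000503632e1
  (Net.cons 16 0x95000033b60000ffd50000dbd0
  (Net.cons 8 0x780087003c001e00e10061003f
  (Net.cons 4 0xd010d0b04060a06030901010b0200
  (Net.cons 2 0x23322201021001122022001103021
  (Net.cons 1 0x510441414500554511414104014145
  (Net.nil)))))))))))))

noncomputable def r23 : Net :=
  Net.cons 120 0xff7df7f4f9dae35b912c4490024800
  (Net.nil)

noncomputable def y23 : Net := catN r23 (a23_0.widen (ones 120 2))

noncomputable def a24_0 : Net :=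
  Net.cons 1 0x110051005450045504050101455414
  (Net.cons 2 0x231110111320103231303000221300
  (Net.cons 4 0xd0504010b0b0e0509060b0d080400
  (Net.cons 8 0xe000ec006200c7006a002e0000
  (Net.cons 16 0x870000a20a000014010000a000
  (Net.cons 32 0x2002190000000058000000
  (Net.cons 64 0x2706717c9ae50c
  (Net.cons 32 0xdbac0000000001cd8799b
  (Net.cons 16 0xfd0000da0d00007db300009c35
  (Net.cons 8 0x46005500e00016005a0032009a
  (Net.cons 4 0xf0b08000f0200020a0d0503050e0c
  (Net.cons 2 0x313120032233231003021032221121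
  (Net.cons 1 0x501414410055141004544514410554
  (Net.nil)))))))))))))

noncomputable def r24 : Net :=
  Net.cons 120 0x880d0af68fa6461b6aa3bd8417cd6
  (Net.nil)

noncomputable def y24 : Net := catN r24 (a24_0.widen (ones 120 2))

noncomputable def c0 : Net := Net.cons 120 (Nat.shiftLeft (Nat.pred (Nat.shiftLeft 1 120)) 0) (Net.nil)

noncomputable def Y : List Net := [y0, y0.rev, y2, y2.rev, y4, y4.rev, y6, y6.rev, y8, y8.rev, y10, y10.rev, y12, y12.rev, y14, y15, y16, y17, y18, y19, y20, y21, y22, y23, y24, y24.rev, c0]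

def wit : List Wit := [([13, 16, 14, 16], [13, 14, 16, 16], 27)]

theorem Y_ok : allL (Net.ok 240) Y = true := by decide +kernel
theorem cen_0 : allRg (cenChk (stepT 240 8 Y) (idTab 240 8) [26]) 0 27 = true := by decide +kernel
theorem e_l5_0 : eqAllH (stepT 240 8 Y) (idTab 240 8) (maskOf [26]) L5.eqns [0, 27] = true := by decide +kernel
theorem e_x5_0 : eqAllH (stepT 240 8 Y) (idTab 240 8) (maskOf [26]) X5.eqns [] = true := by decide +kernel
theorem e_l4_0 : eqAllH (stepT 240 8 Y) (idTab 240 8) (maskOf [26]) L4.eqns [0, 27, 27, 0, 0, 0, 0, 0, 27, 0, 0, 27, 27] = true := by decide +kernel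
theorem e_x4_0 : eqAllH (stepT 240 8 Y) (idTab 240 8) (maskOf [26]) X4.eqns [0] = true := by decide +kernel
theorem e_l3_0 : eqAllH (stepT 240 8 Y) (idTab 240 8) (maskOf [26]) L3.eqns [0, 27, 27, 0, 0, 0, 27, 27, 0, 0, 27, 0, 27, 0, 27, 27, 27, 27, 27, 0, 27, 27, 0, 27, 0, 27, 27, 0, 0, 27, 0, 0, 0, 27, 27, 27, 0, 0, 27, 27, 0, 0, 0, 0, 27, 0, 0, 27] = true := by decide +kernel
theorem e_x3_0 : eqAllH (stepT 240 8 Y) (idTab 240 8) (maskOf [26]) X3.eqns [0, 0, 0] = true := by decide +kernel
theorem e_l2_0 : eqAllH (stepT 240 8 Y) (idTab 240 8) (maskOf [26]) L2.eqns [0, 0, 27, 27, 0, 27, 0, 27, 0, 0, 0, 0, 27, 27, 27, 27, 27, 27, 0, 0, 27, 0, 27, 0, 0, 0, 27, 0, 0, 27, 0, 0, 0, 0] = true := by decide +kernel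
theorem e_x2_0 : eqAllH (stepT 240 8 Y) (idTab 240 8) (maskOf [26]) X2.eqns [0, 0, 0, 0, 0] = true := by decide +kernel
theorem e_l1_0 : eqAllH (stepT 240 8 Y) (idTab 240 8) (maskOf [26]) L1.eqns [0, 27, 0, 0, 0, 0, 0, 0, 0, 0, 27, 0, 27, 27, 0, 0, 0, 0, 0, 27, 27, 27, 0, 27, 0] = true := by decide +kernel
theorem e_x1_0 : eqAllH (stepT 240 8 Y) (idTab 240 8) (maskOf [26]) X1.eqns [0, 27, 0] = true := by decide +kernel
theorem e_l0_0 : eqAllH (stepT 240 8 Y) (idTab 240 8) (maskOf [26]) L0.eqns [0, 0, 0, 27, 0, 0, 27, 27, 0, 27, 27, 0, 0, 27, 0, 0, 27] = true := by decide +kernel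
theorem e_x0_0 : eqAllH (stepT 240 8 Y) (idTab 240 8) (maskOf [26]) X0.eqns [0, 0, 0, 27, 0] = true := by decide +kernel
theorem e_xd_0 : eqAllH (stepT 240 8 Y) (idTab 240 8) (maskOf [26]) XD.eqns [0, 0, 27, 0, 0, 0, 27, 0, 0, 0, 27, 0, 0, 27, 0, 27, 27, 27, 27, 27, 27, 0, 0, 0] = true := by decide +kernel
theorem e_mx_0 : eqAllH (stepT 240 8 Y) (idTab 240 8) (maskOf [26]) (L0.maxEqns MX) [27, 0] = true := by decide +kernel
theorem e_nc_0 : eqAllH (stepT 240 8 Y) (idTab 240 8) (maskOf [26]) NC.eqns [27, 27, 27] = true := by decide +kernel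
theorem wit_ok : witOK 0x3ffffff (stepT 63 6 W) (idTab 63 6) (stepT 240 8 Y) (idTab 240 8) wit = true := by decide +kernel
theorem lb_ok : Nat.ble 2 (lbVal (stepW (stepN Y) (wit.map fun w => w.2.2)) 240 [(0, 2, [1])] []) = true := by
  decide +kernel

theorem wmY : WM (permG 240 Y) (stepT 240 8 Y) (idTab 240 8) := WM.perm Y_ok (by norm_num)

theorem cen : Cen (permG 240 Y) (maskOf [26]) :=
  cen_perm (K := 8) (T := 27) (by norm_num) Y_ok rfl (allRg_zero cen_0)

theorem low : Low (cl (permG 63 W) top) 2 := by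
  have hm := exists_letters W_ok (inA_top E)
  let g : ℕ → cl (permG 63 W) top := fun m => ⟨_, hm m⟩
  have PM : PModel (cl (permG 63 W) top) 63 (finPt 63) := (pModel_perm 63 (by norm_num)).subgroup _
  have hg : ∀ m, Acts 63 (finPt 63) (nth Net.nil W m) (g m) := acts_permG W_ok
  have E1 : Eqs g := eqs_of_WM (PM.wm hg (by norm_num))
  have E2 : Eqs (fun m => (g m, cen.quo m)) :=
    { l5 := E1.l5.prod (cen.allHold wmY e_l5_0)
      x5 := E1.x5.prod (cen.allHold wmY e_x5_0)
      l4 := E1.l4.prod (cen.allHold wmY e_l4_0)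
      x4 := E1.x4.prod (cen.allHold wmY e_x4_0)
      l3 := E1.l3.prod (cen.allHold wmY e_l3_0)
      x3 := E1.x3.prod (cen.allHold wmY e_x3_0)
      l2 := E1.l2.prod (cen.allHold wmY e_l2_0)
      x2 := E1.x2.prod (cen.allHold wmY e_x2_0)
      l1 := E1.l1.prod (cen.allHold wmY e_l1_0)
      x1 := E1.x1.prod (cen.allHold wmY e_x1_0)
      l0 := E1.l0.prod (cen.allHold wmY e_l0_0)
      x0 := E1.x0.prod (cen.allHold wmY e_x0_0)
      xd := E1.xd.prod (cen.allHold wmY e_xd_0)
      mx := E1.mx.prod (cen.allHold wmY e_mx_0)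
      nc := E1.nc.prod (cen.allHold wmY e_nc_0) }
  let _ := fstAction (cl (permG 63 W) top) (cenA (permG 240 Y) (maskOf [26]) ⧸ Subgroup.center _) (Fin 63)
  obtain ⟨ρ, hρ⟩ := exists_hom_of_card (cl_lift hm)
    ((card (sm_prod _ (PM.sm hg)) E2).trans card_perm.symm)
  exact low_of_perm PM hg (by norm_num) (by norm_num) (by norm_num) Y_ok cen ρ
    (fun m h => hρ _ (inA_top E2 m h)) wit_ok lb_ok

end CfsgLib.MultC.Sp62.Cov
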