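import Mathlib
import Cfsg.Agent.Lib.MultC.Sp62.Base

/-! multiplier certificate for the prime 3 (generated) -/

set_option autoImplicit false
set_option maxRecDepth 100000
set_option Elab.async false

namespace CfsgLib.MultC.Sp62.P3

open CfsgLib.Comput CfsgLib.MultC

noncomputable def x0 : Net :=
  Net.cons 1 0x444004004044004
  (Net.cons 4 0x80800000c0008
  (Net.cons 8 0x8000000000
  (Net.cons 16 0x7fb700000000
  (Net.cons 32 0xf7ff08
  (Net.cons 16 0x787400007474
  (Net.cons 8 0x4b004b00c7004f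
  (Net.cons 4 0x106060d0609050e
  (Net.cons 1 0x1041055410014510
  (Net.nil)))))))))

noncomputable def x1 : Net :=
  Net.cons 1 0x104041001040410
  (Net.cons 2 0x1013222010132220
  (Net.cons 4 0x1080008090000
  (Net.cons 8 0x8000080000
  (Net.cons 16 0x4ad60000ca56
  (Net.cons 8 0xa200080022
  (Net.cons 4 0xe0208080602
  (Net.cons 2 0x1013222010132220
  (Net.cons 1 0x115151001151510
  (Net.nil)))))))))

noncomputable def x2 : Net :=
  Net.cons 1 0x454444044454440
  (Net.cons 2 0x320100003120100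
  (Net.cons 4 0x700080005000400
  (Net.cons 8 0x43000000e00000
  (Net.cons 32 0x4000000
  (Net.cons 16 0x2655000023d5
  (Net.cons 8 0x7300e700730072
  (Net.cons 4 0x60b05070f010a04
  (Net.cons 2 0x1310101202333221
  (Net.cons 1 0x4000155545551
  (Net.nil))))))))))

noncomputable def x3 : Net :=
  Net.cons 1 0x401510141041051
  (Net.cons 2 0x1001133220031020
  (Net.cons 4 0x308090e0c050400
  (Net.cons 8 0x73005100610000
  (Net.cons 16 0x48800000000
  (Net.cons 32 0x3dc29b29
  (Net.cons 16 0x6e9d000063a6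
  (Net.cons 8 0x7c009e00b3004c
  (Net.cons 4 0x407080f02030c
  (Net.cons 2 0x210232132131012
  (Net.cons 1 0x11551404515051
  (Net.nil)))))))))))

noncomputable def x4 : Net :=
  Net.cons 1 0x154445554010100
  (Net.cons 2 0x232030110212022
  (Net.cons 4 0x40f0100000b0d08
  (Net.cons 8 0x31005400b30080
  (Net.cons 16 0x45eb00000000
  (Net.cons 32 0x5b28b6c3
  (Net.cons 16 0x39b20000c716
  (Net.cons 8 0x3f000500050048
  (Net.cons 4 0x2040506060d0d0c
  (Net.cons 2 0x1003102101123013
  (Net.cons 1 0x415110404044404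
  (Net.nil)))))))))))

noncomputable def x5 : Net :=
  Net.cons 1 0x4444405540
  (Net.cons 2 0x2111010011000
  (Net.cons 4 0x8010100010000
  (Net.cons 8 0x8000100000
  (Net.cons 16 0x1000000000
  (Net.cons 32 0x100000
  (Net.cons 16 0x9000001000
  (Net.cons 8 0x8008100500040
  (Net.cons 4 0x70a07050a090a00
  (Net.cons 2 0x13113233013300
  (Net.cons 1 0x154444515540
  (Net.nil)))))))))))

noncomputable def X : List Net := [x0, x1, x2, x3, x4, x5]

def D : Dat := ⟨2, 4, 2,
  0x404040001050001400,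
  8, 0x4010040140100401,
  0x802008a140201482,
  0x11110000, 3⟩

def R0 : List (ℕ × ℕ × ℕ × List ℕ) := [(64, 1, 0, [130]),
  (16, 1, 0, [114, 130]),
  (8, 1, 0, [82]),
  (32, 2, 0, [146]),
  (4, 0, 0, [81, 97, 129, 145])]
def R1 : List (ℕ × List ℕ × List ℕ × List ℕ) := [(0, [1, 2], [2, 1], [65]),
  (0, [0, 0, 0], [], [1, 146]),
  (1, [5, 5, 5], [], [33]),
  (1, [4, 6], [7, 6, 4], [49, 129, 274]),
  (1, [4, 5], [6, 5, 4], [17, 114, 130, 258])]

noncomputable def A : LA := ⟨8, [[161, 273], [241], [257], [273]],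
  [], [],
  Dat.sps R0 ++ (Dat.sps R1),
  [0x2001000,
  0x2000000010,
  0x20000000,
  0x200000002,
  0x200000,
  256,
  0x22202,
  18,
  1,
  0x1000],
  []⟩

def lv : LB := [(0, 1, [4, 4, 3, 3, 1, 1]), (1, 1, [2, 2])]

theorem r0 : D.consAll 8 R0 = true := by decide +kernel
theorem r1 : D.fusAll 12 R1 = true := by decide +kernel
theorem xw : wordsOK 63 6 U X [[0x203030406050a0b0b14], [0x80807070a090f14], [0x102060505050a0a090e14], [0x20201020605050a09090e1215], [0x4080807070c09090e12], [0x7060c0b0d0e15]] = true := by decide +kernel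
theorem c1_0 : allRg (D.rowChk (stepT 63 6 X) (idTab 63 6)) 0 4 = true := by decide +kernel
theorem c2_0 : allRg (D.fusChk (stepT 63 6 X) (idTab 63 6)) 0 8 = true := by decide +kernel
theorem c3 : lbOK 63 X 4 (3 ^ 4) lv = true := by decide +kernel
theorem c4 : D.basicOK A = true := by decide +kernel
theorem c5_0 : allRg (D.rowOK A) 0 4 = true := by decide +kernel

theorem pb {G : Type*} {Ω : Type*} [Group G] [MulAction G Ω] {pt : ℕ → Ω} (M : PModel G 63 pt)
    (h : AllReal G 63 pt V0) (hG : Nat.card G = 1451520) : PBound G 3 [] :=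
  M.pBound (W := X) (k := 6) (D := D) (A := A) ((realU h).words (by norm_num) xw) (by norm_num) (by norm_num) rfl 0 rfl
    (by decide) rfl (by decide) (allRg_zero c1_0) (allRg_zero c2_0) c3 hG
    (by decide +kernel) ((D.allGood_cons 8 R0 (by norm_num) r0).append (D.allGood_fus 12 R1 (by norm_num) r1)) c4 (allRg_zero c5_0)

end CfsgLib.MultC.Sp62.P3
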